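import Cfsg.Agent.Mrg.Omega.CaseL.Base

-- merged: Cfsg.Agent.Mrg.Omega.NO3S.Pt.Base
section

/-!
# NO-3S, `|V| = 4`: points as involutions, all critical distances

`Fr T V z` : a flag `(z, V)` as in `CaseL.Ln` (K-free), `W_z = ws V z` abelian, and (F1): `K_z = kq V z` moves the
points of `V`.  Points: the conjugates of `z`; lines: the conjugates of `V` (`lines V x`); `W_x = ws V x`;
`TwoOne.ii V` = the intersection of the `W_p`, `p ∈ V#`.
(The statements and proofs are those of `TwoOne/Base.lean`, without the condition `[W_z, W_y] ≠ 1`.)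

* `Fr.conj`, `Fr.point`, `Fr.of_mem` : every flag is as good as `(z, V)`;
* `Fr.mem_ii` : `ii V` is the intersection of any two of the `W_p`;
* `Fr.fu` (FU) : for `u ∈ ii V`, `u ∉ V` and every point `p` of `V` some `k ∈ K_p ∩ C_G(V)` has `k u k⁻¹ = p u`;
* `Fr.ftwo` (F2) : `N_G(V) ∩ C_G(u)` is transitive on the points of `V`.
-/

set_option autoImplicit false
set_option linter.unusedSectionVars false

namespace Cfsg.Agent.Omega.NO3S.Pt

open Subgroup Cfsg Cfsg.Agent.ZN Cfsg.Agent.MinSimple.Geo Cfsg.Agent.Omega.CaseL Cfsg.Agent.Omega.NO3S.TwoOne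
open Cfsg.Agent.ZN.Block (conj_mem_of_normalizer conj_mem_of_normalizer' le_normalizer_of_forall
  mem_normalizer_of)

universe u

variable {G : Type u} [Group G]

/-- a flag, with (F1) -/
structure Fr (T V : Subgroup G) (z : G) : Prop where
  ln : Ln T V z
  ab : ∀ a ∈ ws V z, ∀ b ∈ ws V z, a * b = b * a
  f1 : ∃ k ∈ kq V z, k ∉ centralizer (V : Set G)

namespace Fr

variable {T V : Subgroup G} {z : G}

theorem conj (h : Fr T V z) (g : G) : Fr (cj g T) (cj g V) (g * z * g⁻¹) where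
  ln := h.ln.conj g
  ab := by
    rw [ws_cj, ← cj_ws]
    intro a ha b hb
    have := h.ab _ (mem_of_cj ha) _ (mem_of_cj hb)
    calc a * b = g * ((g⁻¹ * a * g) * (g⁻¹ * b * g)) * g⁻¹ := by group
      _ = g * ((g⁻¹ * b * g) * (g⁻¹ * a * g)) * g⁻¹ := by rw [this]
      _ = b * a := by group
  f1 := by
    obtain ⟨k, hk, hk1⟩ := h.f1
    refine ⟨g * k * g⁻¹, ?_, ?_⟩
    · rw [kq_cj]; exact conj_mem_kq g hk
    · intro e
      apply hk1
      rw [mem_centralizer_iff] at e ⊢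
      intro v hv
      have := e _ (conj_mem_cj hv)
      calc v * k = g⁻¹ * ((g * v * g⁻¹) * (g * k * g⁻¹)) * g := by group
        _ = g⁻¹ * ((g * k * g⁻¹) * (g * v * g⁻¹)) * g := by rw [this]
        _ = k * v := by group

theorem point (h : Fr T V z) {p : G} (hp : p ∈ V) (hp1 : p ≠ 1) :
    ∃ g ∈ normalizer (V : Set G), g * z * g⁻¹ = p ∧ Fr (cj g T) V p := by
  obtain ⟨g, hg, rfl⟩ := h.ln.trans p hp hp1
  refine ⟨g, hg, rfl, ?_⟩
  have := h.conj g
  rwa [cj_eq_of_mem_normalizer hg] at this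

theorem sqz (h : Fr T V z) : ∀ a ∈ ws V z, a * a = 1 := ws_sq h.ln h.ab

/-! ### all points of `V` -/

section points

variable {p q : G}

theorem sq (h : Fr T V z) (hp : p ∈ V) (hp1 : p ≠ 1) : ∀ a ∈ ws V p, a * a = 1 := by
  obtain ⟨g, -, -, hg⟩ := h.point hp hp1
  exact hg.sqz

theorem comm (h : Fr T V z) (hp : p ∈ V) (hp1 : p ≠ 1) : ∀ a ∈ ws V p, ∀ b ∈ ws V p, a * b = b * a := by
  obtain ⟨g, -, -, hg⟩ := h.point hp hp1
  exact hg.ab

theorem V_le (h : Fr T V z) (hp : p ∈ V) (hp1 : p ≠ 1) : V ≤ ws V p := by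
  obtain ⟨g, -, -, hg⟩ := h.point hp hp1
  exact hg.ln.V_le_ws

theorem ws_le_centralizer_V (h : Fr T V z) (hp : p ∈ V) (hp1 : p ≠ 1) :
    ws V p ≤ centralizer (V : Set G) := by
  intro a ha
  rw [mem_centralizer_iff]
  intro v hv
  exact h.comm hp hp1 v (h.V_le hp hp1 hv) a ha

theorem V_comm (_ : Fr T V z) {v c : G} (hv : v ∈ V) (hc : c ∈ centralizer (V : Set G)) :
    v * c = c * v := mem_centralizer_iff.mp hc v hv

theorem V_le_centralizer (h : Fr T V z) : V ≤ centralizer (V : Set G) := by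
  intro v hv
  rw [mem_centralizer_iff]
  intro w hw
  exact h.ln.comm hw hv

theorem cent_le_centralizer (_ : Fr T V z) (hp : p ∈ V) :
    centralizer (V : Set G) ≤ centralizer ({p} : Set G) := by
  intro c hc
  rw [mem_centralizer_singleton_iff]
  exact (mem_centralizer_iff.mp hc p hp).symm

/-- `C_G(V)` normalizes `W_p` -/
theorem cent_norm (h : Fr T V z) (hp : p ∈ V) :
    centralizer (V : Set G) ≤ normalizer ((ws V p : Subgroup G) : Set G) :=
  (h.cent_le_centralizer hp).trans (centralizer_le_normalizer_ws V p)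

theorem mul_ne_one (h : Fr T V z) (hq : q ∈ V) (hpq : p ≠ q) : p * q ≠ 1 := fun e =>
  hpq (by rw [mul_eq_one_iff_eq_inv.mp e, h.ln.inv_eq hq])

theorem mem_centralizer_of (h : Fr T V z) (hp : p ∈ V) (hp1 : p ≠ 1) (hq : q ∈ V) (hq1 : q ≠ 1)
    (hqp : q ≠ p) {g : G} (h1 : g * p = p * g) (h2 : g * q = q * g) :
    g ∈ centralizer (V : Set G) := by
  obtain ⟨g, -, -, hg⟩ := h.point hp hp1
  exact hg.ln.mem_centralizer_V hq hq1 hqp h1 h2

theorem exists_q (h : Fr T V z) (hp : p ∈ V) (hp1 : p ≠ 1) : ∃ q ∈ V, q ≠ 1 ∧ q ≠ p := by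
  obtain ⟨g, -, -, hg⟩ := h.point hp hp1
  exact hg.ln.exists_y

/-- elements of `K_p` act on `W_p` by multiplication with `1` or `p` -/
theorem kq_cases (h : Fr T V z) (hp : p ∈ V) {k w : G} (hk : k ∈ kq V p) (hw : w ∈ ws V p) :
    k * w * k⁻¹ = w ∨ k * w * k⁻¹ = p * w := by
  rcases (mem_zpowers_iff_of_mul_self (h.ln.sq p hp)).mp (kq_comm hk hw) with e | e
  · left
    calc k * w * k⁻¹ = (k * w * k⁻¹ * w⁻¹) * w := by group
      _ = w := by rw [e, one_mul]
  · right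
    calc k * w * k⁻¹ = (k * w * k⁻¹ * w⁻¹) * w := by group
      _ = p * w := by rw [e]

theorem kq_p (_ : Fr T V z) {k : G} (hk : k ∈ kq V p) : k * p = p * k :=
  mem_centralizer_singleton_iff.mp (kq_le_centralizer V p hk)

/-- `K_p` normalizes `V` -/
theorem kq_le_normalizer (h : Fr T V z) (hp : p ∈ V) (hp1 : p ≠ 1) :
    kq V p ≤ normalizer (V : Set G) := by
  refine le_normalizer_of_forall fun k hk v hv => ?_
  rcases h.kq_cases hp hk (h.V_le hp hp1 hv) with e | e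
  · rw [e]; exact hv
  · rw [e]; exact mul_mem hp hv

/-- (F1) at every point -/
theorem exists_mover (h : Fr T V z) (hp : p ∈ V) (hp1 : p ≠ 1) :
    ∃ k ∈ kq V p, k ∉ centralizer (V : Set G) := by
  obtain ⟨g, -, -, hg⟩ := h.point hp hp1
  exact hg.f1

/-- a mover of `K_p` moves the points `q ≠ p` to `p q` -/
theorem move (h : Fr T V z) (hp : p ∈ V) (hp1 : p ≠ 1) (hq : q ∈ V) (hq1 : q ≠ 1) (hqp : q ≠ p)
    {k : G} (hk : k ∈ kq V p) (hk1 : k ∉ centralizer (V : Set G)) : k * q * k⁻¹ = p * q := by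
  rcases h.kq_cases hp hk (h.V_le hp hp1 hq) with e | e
  · exfalso
    exact hk1 (h.mem_centralizer_of hp hp1 hq hq1 hqp (h.kq_p hk) (comm_of_conj_eq e))
  · exact e

/-- the movers of `K_p` form one coset of `K_p ∩ C_G(V)` -/
theorem mover_coset (h : Fr T V z) (hp : p ∈ V) (hp1 : p ≠ 1) {k k' : G} (hk : k ∈ kq V p)
    (hk1 : k ∉ centralizer (V : Set G)) (hk' : k' ∈ kq V p) (hk1' : k' ∉ centralizer (V : Set G)) :
    k' * k⁻¹ ∈ centralizer (V : Set G) := by
  obtain ⟨q, hq, hq1, hqp⟩ := h.exists_q hp hp1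
  refine h.mem_centralizer_of hp hp1 (mul_mem hp hq) (h.mul_ne_one hq (Ne.symm hqp)) ?_ ?_ ?_
  · intro e'
    exact hq1 (by simpa using e')
  · exact mul_comm_of (h.kq_p hk') (inv_comm_of (h.kq_p hk))
  · refine comm_of_conj_eq ?_
    have e1 := h.move hp hp1 hq hq1 hqp hk hk1
    have e2 := h.move hp hp1 hq hq1 hqp hk' hk1'
    calc k' * k⁻¹ * (p * q) * (k' * k⁻¹)⁻¹ = k' * (k⁻¹ * (p * q) * k) * k'⁻¹ := by group
      _ = k' * (k⁻¹ * (k * q * k⁻¹) * k) * k'⁻¹ := by rw [e1]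
      _ = k' * q * k'⁻¹ := by group
      _ = p * q := e2

end points

end Fr

namespace Fr

variable {T V : Subgroup G} {z : G}

theorem V_le_ii (h : Fr T V z) : V ≤ ii V := fun _ hv _ hp hp1 => h.V_le hp hp1 hv

theorem ii_le_centralizer (h : Fr T V z) : ii V ≤ centralizer (V : Set G) :=
  (ii_le h.ln.z_mem h.ln.z_ne).trans (h.ws_le_centralizer_V h.ln.z_mem h.ln.z_ne)

/-- `ii V` is the intersection of any two of the `W_p`. -/
theorem mem_ii (h : Fr T V z) {p q u : G} (hp : p ∈ V) (hp1 : p ≠ 1) (hq : q ∈ V) (hq1 : q ≠ 1)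
    (hqp : q ≠ p) (h1 : u ∈ ws V p) (h2 : u ∈ ws V q) : u ∈ ii V := by
  intro r hr hr1
  obtain ⟨g, -, -, hg⟩ := h.point hp hp1
  rcases hg.ln.four hp hq hp1 hq1 (Ne.symm hqp) hr with e | e | e | e
  · exact absurd e hr1
  · rw [e]; exact h1
  · rw [e]; exact h2
  · obtain ⟨k, hk, hk1⟩ := h.exists_mover hp hp1
    have e1 := h.move hp hp1 hq hq1 hqp hk hk1
    have h3 := conj_mem_ws k h2
    rw [e1, ← e] at h3
    rcases h.kq_cases hp hk h1 with e2 | e2
    · rwa [e2] at h3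
    · rw [e2] at h3
      have h4 := mul_mem (h.V_le hr hr1 hp) h3
      rwa [← mul_assoc, h.ln.sq p hp, one_mul] at h4

/-- the fixed points of all `K_p` on `ii V` are trivial -/
theorem fix_triv [Finite G] (h : Fr T V z) {u : G} (hu : u ∈ ii V)
    (hf : ∀ p ∈ V, p ≠ 1 → ∀ k ∈ kq V p, k * u = u * k) : u = 1 := by
  let D : Subgroup G :=
    { carrier := {d | d ∈ ii V ∧ ∀ p ∈ V, p ≠ 1 → ∀ k ∈ kq V p, k * d = d * k}
      mul_mem' := by
        rintro a b ⟨ha, ha1⟩ ⟨hb, hb1⟩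
        exact ⟨mul_mem ha hb, fun p hp hp1 k hk => comm_mul_of (ha1 p hp hp1 k hk) (hb1 p hp hp1 k hk)⟩
      one_mem' := ⟨one_mem _, fun p hp hp1 k hk => by simp⟩
      inv_mem' := by
        rintro a ⟨ha, ha1⟩
        exact ⟨inv_mem ha, fun p hp hp1 k hk => comm_inv_of (ha1 p hp hp1 k hk)⟩ }
  have hDn : D ≤ normalizer (V : Set G) := fun d hd =>
    centralizer_le_normalizer _ (h.ii_le_centralizer hd.1)
  have hN : normalizer (V : Set G) ≤ normalizer (D : Set G) := by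
    refine le_normalizer_of_forall fun g hg d hd => ?_
    refine ⟨conj_mem_of_normalizer (normalizer_le_normalizer_ii V) hg hd.1, fun p hp hp1 k hk => ?_⟩
    have hp' : g⁻¹ * p * g ∈ V := (mem_normalizer_iff''.mp hg p).mp hp
    have hp1' : g⁻¹ * p * g ≠ 1 := fun e => hp1 (by
      have : p = g * (g⁻¹ * p * g) * g⁻¹ := by group
      rw [this, e]; group)
    have hk' : g⁻¹ * k * g ∈ kq V (g⁻¹ * p * g) := by
      have := conj_mem_kq g⁻¹ hk
      rwa [inv_inv] at this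
    have := hd.2 _ hp' hp1' _ hk'
    calc k * (g * d * g⁻¹) = g * ((g⁻¹ * k * g) * d) * g⁻¹ := by group
      _ = g * (d * (g⁻¹ * k * g)) * g⁻¹ := by rw [this]
      _ = g * d * g⁻¹ * k := by group
  have hD : D = ⊥ := by
    by_contra hne
    have hz := h.ln.z_mem_of_normal hDn hN hne
    obtain ⟨y, hy, hy1, hyz⟩ := h.ln.exists_y
    obtain ⟨k, hk, hk1⟩ := h.exists_mover hy hy1
    have e1 := h.move hy hy1 h.ln.z_mem h.ln.z_ne (Ne.symm hyz) hk hk1
    have e2 := hz.2 y hy hy1 k hk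
    rw [conj_eq_of_comm e2] at e1
    exact hy1 (by simpa using e1.symm)
  have : u ∈ D := ⟨hu, hf⟩
  rw [hD] at this
  exact mem_bot.mp this

/-- (FU), for some point -/
theorem fu_aux [Finite G] (h : Fr T V z) {u : G} (hu : u ∈ ii V) (huV : u ∉ V) :
    ∃ p ∈ V, p ≠ 1 ∧ ∃ k ∈ kq V p, k ∈ centralizer (V : Set G) ∧ k * u * k⁻¹ = p * u := by
  by_contra hcon
  push Not at hcon
  have hcent : ∀ p ∈ V, p ≠ 1 → ∀ k ∈ kq V p, k ∈ centralizer (V : Set G) → k * u = u * k := by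
    intro p hp hp1 k hk hkV
    rcases h.kq_cases hp hk (hu p hp hp1) with e | e
    · exact comm_of_conj_eq e
    · exact absurd e (hcon p hp hp1 k hk hkV)
  have hz := h.ln.z_mem
  have hz1 := h.ln.z_ne
  have hzz := h.ln.zz
  obtain ⟨y, hy, hy1, hyz⟩ := h.ln.exists_y
  have hyy := h.ln.sq y hy
  obtain ⟨s, hs, hs1⟩ := h.exists_mover hz hz1
  obtain ⟨t, ht, ht1⟩ := h.exists_mover hy hy1
  have hzy := h.ln.comm hz hy
  have hsy := h.move hz hz1 hy hy1 hyz hs hs1
  have htz := h.move hy hy1 hz hz1 (Ne.symm hyz) ht ht1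
  have hsz : s * z * s⁻¹ = z := conj_eq_of_comm (h.kq_p hs)
  have hty : t * y * t⁻¹ = y := conj_eq_of_comm (h.kq_p ht)
  have huc := h.ii_le_centralizer hu
  have huz := h.V_comm hz huc
  have huy := h.V_comm hy huc
  -- a point of `u V` fixed by `s` and `t`
  obtain ⟨v, hv, hsv, htv⟩ : ∃ v ∈ V, s * (v * u) * s⁻¹ = v * u ∧ t * (v * u) * t⁻¹ = v * u := by
    have es : ∀ v, s * (v * u) * s⁻¹ = (s * v * s⁻¹) * (s * u * s⁻¹) := fun v => by group
    have et : ∀ v, t * (v * u) * t⁻¹ = (t * v * t⁻¹) * (t * u * t⁻¹) := fun v => by group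
    rcases h.kq_cases hz hs (hu z hz hz1) with e1 | e1 <;>
      rcases h.kq_cases hy ht (hu y hy hy1) with e2 | e2
    · exact ⟨1, one_mem _, by simpa using e1, by simpa using e2⟩
    · -- `v = z`
      refine ⟨z, hz, ?_, ?_⟩
      · rw [es, hsz, e1]
      · rw [et, htz, e2]
        calc y * z * (y * u) = y * (z * y) * u := by group
          _ = (y * y) * (z * u) := by rw [hzy]; group
          _ = z * u := by rw [hyy, one_mul]
    · refine ⟨y, hy, ?_, ?_⟩
      · rw [es, hsy, e1]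
        calc z * y * (z * u) = z * (y * z) * u := by group
          _ = (z * z) * (y * u) := by rw [← hzy]; group
          _ = y * u := by rw [hzz, one_mul]
      · rw [et, hty, e2]
    · refine ⟨y * z, mul_mem hy hz, ?_, ?_⟩
      · have : s * (y * z) * s⁻¹ = (s * y * s⁻¹) * (s * z * s⁻¹) := by group
        rw [es, this, hsy, hsz, e1]
        calc z * y * z * (z * u) = z * y * (z * z) * u := by group
          _ = z * y * u := by rw [hzz, mul_one]
          _ = y * z * u := by rw [hzy]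
      · have : t * (y * z) * t⁻¹ = (t * y * t⁻¹) * (t * z * t⁻¹) := by group
        rw [et, this, hty, htz, e2]
        calc y * (y * z) * (y * u) = (y * y) * (z * y) * u := by group
          _ = (z * y) * u := by rw [hyy, one_mul]
          _ = y * z * u := by rw [hzy]
  set a := v * u with ha
  have hai : a ∈ ii V := mul_mem (h.V_le_ii hv) hu
  have hacent : ∀ p ∈ V, p ≠ 1 → ∀ k ∈ kq V p, k ∈ centralizer (V : Set G) → k * a = a * k :=
    fun p hp hp1 k hk hkV => comm_mul_of (h.V_comm hv hkV).symm (hcent p hp hp1 k hk hkV)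
  -- one mover which fixes `a` is enough
  have hone : ∀ p ∈ V, p ≠ 1 → ∀ m ∈ kq V p, m ∉ centralizer (V : Set G) → m * a = a * m →
      ∀ k ∈ kq V p, k * a = a * k := by
    intro p hp hp1 m hm hm1 hma k hk
    by_cases hk1 : k ∈ centralizer (V : Set G)
    · exact hacent p hp hp1 k hk hk1
    · have h1 := hacent p hp hp1 _ (mul_mem hk (inv_mem hm)) (h.mover_coset hp hp1 hm hm1 hk hk1)
      have h2 := mul_comm_of h1 hma
      simpa using h2
  have ha1 : a = 1 := by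
    refine h.fix_triv hai fun p hp hp1 => ?_
    rcases h.ln.four hz hy hz1 hy1 (Ne.symm hyz) hp with e | e | e | e
    · exact absurd e hp1
    · subst e; exact hone _ hz hz1 s hs hs1 (comm_of_conj_eq hsv)
    · subst e; exact hone _ hy hy1 t ht ht1 (comm_of_conj_eq htv)
    · have hm := conj_mem_kq s ht
      rw [hsy, ← e] at hm
      refine hone p hp hp1 (s * t * s⁻¹) hm ?_ ?_
      · intro hc
        apply ht1
        have := conj_mem_of_normalizer' (normalizer_le_normalizer_centralizer V)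
          (h.kq_le_normalizer hz hz1 hs) hc
        have e' : s⁻¹ * (s * t * s⁻¹) * s = t := by group
        rwa [e'] at this
      · have h1 := comm_of_conj_eq hsv
        have h2 := comm_of_conj_eq htv
        exact mul_comm_of (mul_comm_of h1 h2) (inv_comm_of h1)
  apply huV
  have : u = v⁻¹ * a := by rw [ha]; group
  rw [this, ha1, mul_one]
  exact inv_mem hv

/-- (FU): for `u ∈ I - V` and every point `p` some element of `K_p ∩ C_G(V)` moves `u` to `p u`. -/
theorem fu [Finite G] (h : Fr T V z) {u : G} (hu : u ∈ ii V) (huV : u ∉ V) {p : G} (hp : p ∈ V)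
    (hp1 : p ≠ 1) : ∃ k ∈ kq V p, k ∈ centralizer (V : Set G) ∧ k * u * k⁻¹ = p * u := by
  obtain ⟨q, hq, hq1, k, hk, hkV, hku⟩ := h.fu_aux hu huV
  by_cases hpq : p = q
  · subst hpq; exact ⟨k, hk, hkV, hku⟩
  have hw : p * q ∈ V := mul_mem hp hq
  have hw1 : p * q ≠ 1 := h.mul_ne_one hq hpq
  have hqw : q ≠ p * q := fun e => hp1 (by simpa using e.symm)
  obtain ⟨t, ht, ht1⟩ := h.exists_mover hw hw1
  have e1 := h.move hw hw1 hq hq1 hqw ht ht1
  have e2 : p * q * q = p := by rw [mul_assoc, h.ln.sq q hq, mul_one]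
  rw [e2] at e1
  have htn := h.kq_le_normalizer hw hw1 ht
  refine ⟨t * k * t⁻¹, ?_, conj_mem_of_normalizer (normalizer_le_normalizer_centralizer V) htn hkV, ?_⟩
  · have := conj_mem_kq t hk
    rwa [e1] at this
  · have htw : t * (p * q) * t⁻¹ = p * q := conj_eq_of_comm (h.kq_p ht)
    have huc := h.ii_le_centralizer hu
    have hkw : k * (p * q) * k⁻¹ = p * q := conj_eq_of_comm (h.V_comm hw hkV).symm
    rcases h.kq_cases hw ht (hu _ hw hw1) with e3 | e3
    · have e4 : t⁻¹ * u * t = u := by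
        calc t⁻¹ * u * t = t⁻¹ * (t * u * t⁻¹) * t := by rw [e3]
          _ = u := by group
      calc t * k * t⁻¹ * u * (t * k * t⁻¹)⁻¹ = t * (k * (t⁻¹ * u * t) * k⁻¹) * t⁻¹ := by group
        _ = t * (q * u) * t⁻¹ := by rw [e4, hku]
        _ = (t * q * t⁻¹) * (t * u * t⁻¹) := by group
        _ = p * u := by rw [e1, e3]
    · have e4 : t⁻¹ * u * t = p * q * u := by
        have h5 : t * (p * q * u) * t⁻¹ = u := by
          calc t * (p * q * u) * t⁻¹ = (t * (p * q) * t⁻¹) * (t * u * t⁻¹) := by group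
            _ = (p * q) * (p * q) * u := by rw [htw, e3]; group
            _ = u := by rw [h.ln.sq _ hw, one_mul]
        calc t⁻¹ * u * t = t⁻¹ * (t * (p * q * u) * t⁻¹) * t := by rw [h5]
          _ = p * q * u := by group
      calc t * k * t⁻¹ * u * (t * k * t⁻¹)⁻¹ = t * (k * (t⁻¹ * u * t) * k⁻¹) * t⁻¹ := by group
        _ = t * ((k * (p * q) * k⁻¹) * (k * u * k⁻¹)) * t⁻¹ := by rw [e4]; group
        _ = t * (p * q * (q * u)) * t⁻¹ := by rw [hkw, hku]
        _ = (t * (p * q) * t⁻¹) * (t * q * t⁻¹) * (t * u * t⁻¹) := by group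
        _ = (p * q) * p * (p * q * u) := by rw [htw, e1, e3]
        _ = (p * q) * (p * p) * (q * u) := by group
        _ = p * (q * q) * u := by rw [h.ln.sq p hp, mul_one]; group
        _ = p * u := by rw [h.ln.sq q hq, mul_one]

/-- (F2): for `u ∈ I - V` the group `N_G(V) ∩ C_G(u)` is transitive on the points of `V`. -/
theorem ftwo [Finite G] (h : Fr T V z) {u : G} (hu : u ∈ ii V) (huV : u ∉ V) {p q : G} (hp : p ∈ V)
    (hp1 : p ≠ 1) (hq : q ∈ V) (hq1 : q ≠ 1) :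
    ∃ g ∈ normalizer (V : Set G), g * u = u * g ∧ g * p * g⁻¹ = q := by
  by_cases hpq : p = q
  · subst hpq
    exact ⟨1, one_mem _, by simp, by simp⟩
  have hw : q * p ∈ V := mul_mem hq hp
  have hw1 : q * p ≠ 1 := h.mul_ne_one hp (Ne.symm hpq)
  have hpw : p ≠ q * p := fun e => hq1 (by simpa using e.symm)
  obtain ⟨t, ht, ht1⟩ := h.exists_mover hw hw1
  have e1 := h.move hw hw1 hp hp1 hpw ht ht1
  have e2 : q * p * p = q := by rw [mul_assoc, h.ln.sq p hp, mul_one]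
  rw [e2] at e1
  have htn := h.kq_le_normalizer hw hw1 ht
  rcases h.kq_cases hw ht (hu _ hw hw1) with e3 | e3
  · exact ⟨t, htn, comm_of_conj_eq e3, e1⟩
  · obtain ⟨k, hk, hkV, hku⟩ := h.fu hu huV hw hw1
    refine ⟨k * t, mul_mem (h.kq_le_normalizer hw hw1 hk) htn, comm_of_conj_eq ?_, ?_⟩
    · have hkw : k * (q * p) * k⁻¹ = q * p := conj_eq_of_comm (h.V_comm hw hkV).symm
      calc k * t * u * (k * t)⁻¹ = k * (t * u * t⁻¹) * k⁻¹ := by group
        _ = (k * (q * p) * k⁻¹) * (k * u * k⁻¹) := by rw [e3]; group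
        _ = (q * p) * (q * p) * u := by rw [hkw, hku]; group
        _ = u := by rw [h.ln.sq _ hw, one_mul]
    · calc k * t * p * (k * t)⁻¹ = k * (t * p * t⁻¹) * k⁻¹ := by group
        _ = k * q * k⁻¹ := by rw [e1]
        _ = q := conj_eq_of_comm (h.V_comm hq hkV).symm

end Fr



end Cfsg.Agent.Omega.NO3S.Pt

end

-- merged: Cfsg.Agent.Mrg.Omega.NO3S.Pt.Path
section

section


/-!
# NO-3S, `|V| = 4`: collinearity, paths, critical pairs

* `Col V x y` : `x`, `y` are nontrivial elements of a conjugate of `V` (reflexive on points);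
* `Pth V k x y` : a path of length `k` (repetitions allowed, so `Pth.mono`);
* `Com V x y` : `[W_x, W_y] = 1`; `Mn V n` : all pairs of distance `< n` commute;
* `Cr V n x y` : critical pair at distance `n`;
* `Fr.flag` : every flag `(x, L)` is as good as `(z, V)`;
* `Fr.ws_le_o2_of_pth` (T1) : `W_x ≤ O₂(C_G(y))` at distance `< n`;
* `Cr.last` : the last line `L = {y', y, ..}` of a critical pair: `W_x ≤ O₂(C_G(L))`;
* `Cr.cent`, `Cr.norm`, `Cr.comm_mem_left`, `Cr.comm_mem_right`, `Cr.star` (STAR).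
-/

set_option autoImplicit false
set_option linter.unusedSectionVars false

namespace Cfsg.Agent.Omega.NO3S.Pt

open Subgroup Cfsg Cfsg.Agent.ZN Cfsg.Agent.MinSimple.Geo Cfsg.Agent.Omega.CaseL Cfsg.Agent.Omega.NO3S.TwoOne
open Cfsg.Agent.ZN.Block (conj_mem_of_normalizer conj_mem_of_normalizer' le_normalizer_of_forall
  mem_normalizer_of)

universe u

variable {G : Type u} [Group G]

theorem conj_mem_cent {A : Set G} {c a : G} (hc : c ∈ centralizer A) (ha : a ∈ centralizer A) :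
    c * a * c⁻¹ ∈ centralizer A := mul_mem (mul_mem hc ha) (inv_mem hc)

/-! ### paths -/

/-- collinear (or equal) points: two nontrivial elements of a line -/
def Col (V : Subgroup G) (x y : G) : Prop := ∃ g : G, x ∈ cj g V ∧ y ∈ cj g V ∧ x ≠ 1 ∧ y ≠ 1

namespace Col

variable {V : Subgroup G} {x y : G}

theorem symm (h : Col V x y) : Col V y x := by
  obtain ⟨g, h1, h2, h3, h4⟩ := h
  exact ⟨g, h2, h1, h4, h3⟩

theorem left (h : Col V x y) : Col V x x := by
  obtain ⟨g, h1, h2, h3, h4⟩ := h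
  exact ⟨g, h1, h1, h3, h3⟩

theorem right (h : Col V x y) : Col V y y := h.symm.left

theorem ne_one (h : Col V x y) : x ≠ 1 := h.choose_spec.2.2.1

theorem conj (g : G) (h : Col V x y) : Col V (g * x * g⁻¹) (g * y * g⁻¹) := by
  obtain ⟨k, h1, h2, h3, h4⟩ := h
  refine ⟨g * k, ?_, ?_, fun e => h3 (conj_eq_one_iff.mp e), fun e => h4 (conj_eq_one_iff.mp e)⟩
  · rw [← cj_cj]; exact conj_mem_cj h1
  · rw [← cj_cj]; exact conj_mem_cj h2

theorem of_mem {g : G} (hx : x ∈ cj g V) (hy : y ∈ cj g V) (hx1 : x ≠ 1) (hy1 : y ≠ 1) : Col V x y :=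
  ⟨g, hx, hy, hx1, hy1⟩

end Col

/-- a path of length `k` -/
inductive Pth (V : Subgroup G) : ℕ → G → G → Prop
  | zero {x : G} (hx : Col V x x) : Pth V 0 x x
  | step {k : ℕ} {x y w : G} (h : Pth V k x y) (c : Col V y w) : Pth V (k + 1) x w

namespace Pth

variable {V : Subgroup G} {x y w : G} {k m : ℕ}

theorem right (h : Pth V k x y) : Col V y y := by
  cases h with
  | zero hx => exact hx
  | step _ c => exact c.right

theorem left (h : Pth V k x y) : Col V x x := by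
  induction h with
  | zero hx => exact hx
  | step _ _ ih => exact ih

theorem head (c : Col V x y) (h : Pth V k y w) : Pth V (k + 1) x w := by
  induction h with
  | zero _ => exact (Pth.zero c.left).step c
  | step _ c' ih => exact (ih c).step c'

theorem symm (h : Pth V k x y) : Pth V k y x := by
  induction h with
  | zero hx => exact .zero hx
  | step _ c ih => exact ih.head c.symm

theorem trans (h : Pth V k x y) (h' : Pth V m y w) : Pth V (k + m) x w := by
  induction h' with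
  | zero _ => exact h
  | step _ c ih => exact (ih h).step c

theorem conj (g : G) (h : Pth V k x y) : Pth V k (g * x * g⁻¹) (g * y * g⁻¹) := by
  induction h with
  | zero hx => exact .zero (hx.conj g)
  | step _ c ih => exact ih.step (c.conj g)

theorem succ (h : Pth V k x y) : Pth V (k + 1) x y := h.step h.right

theorem mono (h : Pth V k x y) (hkm : k ≤ m) : Pth V m x y := by
  induction hkm with
  | refl => exact h
  | step _ ih => exact ih.succ

theorem of_col (c : Col V x y) : Pth V 1 x y := (Pth.zero c.left).step c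

theorem col (h : Pth V 1 x y) : Col V x y := by
  cases h with
  | step h c =>
    cases h with
    | zero _ => exact c

theorem exists_mid (h : Pth V 2 x y) : ∃ r, Col V x r ∧ Col V r y := by
  cases h with
  | step h c => exact ⟨_, h.col, c⟩

end Pth

/-- `[W_x, W_y] = 1` -/
def Com (V : Subgroup G) (x y : G) : Prop := ∀ a ∈ ws V x, ∀ b ∈ ws V y, a * b = b * a

theorem Com.symm {V : Subgroup G} {x y : G} (h : Com V x y) : Com V y x := fun a ha b hb => (h b hb a ha).symm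

theorem Com.conj {V : Subgroup G} {x y : G} (h : Com V x y) (g : G) : Com V (g * x * g⁻¹) (g * y * g⁻¹) := by
  unfold Com
  rw [← cj_ws, ← cj_ws]
  intro a ha b hb
  have h1 := h _ (mem_cj.mp ha) _ (mem_cj.mp hb)
  calc a * b = g * ((g⁻¹ * a * g) * (g⁻¹ * b * g)) * g⁻¹ := by group
    _ = g * ((g⁻¹ * b * g) * (g⁻¹ * a * g)) * g⁻¹ := by rw [h1]
    _ = b * a := by group

theorem Com.of_conj {V : Subgroup G} {x y : G} (g : G) (h : Com V (g * x * g⁻¹) (g * y * g⁻¹)) : Com V x y := by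
  have := h.conj g⁻¹
  have e : ∀ x : G, g⁻¹ * (g * x * g⁻¹) * g⁻¹⁻¹ = x := fun x => by group
  rwa [e, e] at this

/-- all pairs of distance `< n` commute -/
def Mn (V : Subgroup G) (n : ℕ) : Prop := ∀ k < n, ∀ a b, Pth V k a b → Com V a b

/-- critical pair -/
structure Cr (V : Subgroup G) (n : ℕ) (x y : G) : Prop where
  path : Pth V n x y
  ne : ¬ Com V x y
  min : Mn V n

namespace Cr

variable {V : Subgroup G} {n : ℕ} {x y : G}

theorem symm (h : Cr V n x y) : Cr V n y x := ⟨h.path.symm, fun e => h.ne e.symm, h.min⟩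

theorem conj (h : Cr V n x y) (g : G) : Cr V n (g * x * g⁻¹) (g * y * g⁻¹) :=
  ⟨h.path.conj g, fun e => h.ne (e.of_conj g), h.min⟩

end Cr

/-! ### all flags -/

namespace Fr

variable {T V : Subgroup G} {z : G}

theorem flag (h : Fr T V z) {g x : G} (hx : x ∈ cj g V) (hx1 : x ≠ 1) :
    ∃ k, cj k V = cj g V ∧ k * z * k⁻¹ = x ∧ Fr (cj k T) (cj g V) x := by
  rw [mem_cj] at hx
  have hx1' : g⁻¹ * x * g ≠ 1 := fun e => hx1 (by
    have : x = g * (g⁻¹ * x * g) * g⁻¹ := by group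
    rw [this, e]; group)
  obtain ⟨m, hm, hmz, hf⟩ := h.point hx hx1'
  have h1 := hf.conj g
  have e : g * (g⁻¹ * x * g) * g⁻¹ = x := by group
  rw [e, cj_cj] at h1
  refine ⟨g * m, ?_, ?_, h1⟩
  · rw [← cj_cj, cj_eq_of_mem_normalizer hm]
  · calc g * m * z * (g * m)⁻¹ = g * (m * z * m⁻¹) * g⁻¹ := by group
      _ = x := by rw [hmz]; group

theorem exists_flag (h : Fr T V z) {x : G} (hx : Col V x x) :
    ∃ g k, x ∈ cj g V ∧ cj k V = cj g V ∧ k * z * k⁻¹ = x ∧ Fr (cj k T) (cj g V) x := by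
  obtain ⟨g, h1, -, h2, -⟩ := hx
  obtain ⟨k, hk⟩ := h.flag h1 h2
  exact ⟨g, k, h1, hk⟩

theorem isPt (h : Fr T V z) {x : G} (hx : Col V x x) : ∃ k, k * z * k⁻¹ = x := by
  obtain ⟨-, k, -, -, hk, -⟩ := h.exists_flag hx
  exact ⟨k, hk⟩

theorem col_z (h : Fr T V z) : Col V z z :=
  ⟨1, by rw [cj_one]; exact h.ln.z_mem, by rw [cj_one]; exact h.ln.z_mem, h.ln.z_ne, h.ln.z_ne⟩

theorem col_conj_z (h : Fr T V z) (g : G) : Col V (g * z * g⁻¹) (g * z * g⁻¹) := h.col_z.conj g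

/-- two points are conjugate -/
theorem exists_conj (h : Fr T V z) {x y : G} (hx : Col V x x) (hy : Col V y y) : ∃ g, g * x * g⁻¹ = y := by
  obtain ⟨a, ha⟩ := h.isPt hx
  obtain ⟨b, hb⟩ := h.isPt hy
  refine ⟨b * a⁻¹, ?_⟩
  calc b * a⁻¹ * x * (b * a⁻¹)⁻¹ = b * (a⁻¹ * x * a) * b⁻¹ := by group
    _ = b * (a⁻¹ * (a * z * a⁻¹) * a) * b⁻¹ := by rw [ha]
    _ = b * z * b⁻¹ := by group
    _ = y := hb

section basic

variable {x y : G}

theorem pt_sq (h : Fr T V z) (hx : Col V x x) : x * x = 1 := by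
  obtain ⟨_, _, -, -, -, hf⟩ := h.exists_flag hx
  exact hf.ln.zz

theorem col_comm (h : Fr T V z) (hx : Col V x y) : x * y = y * x := by
  obtain ⟨g, h1, h2, h3, h4⟩ := hx
  obtain ⟨k, hk⟩ := h.flag h1 h3
  exact hk.2.2.ln.comm h1 h2

theorem line_le_ws (_ : Fr T V z) {g : G} (hx : x ∈ cj g V) : cj g V ≤ ws V x := le_ws ⟨⟨g, rfl⟩, hx⟩

theorem mem_ws_of_col (h : Fr T V z) (hx : Col V x y) : y ∈ ws V x := by
  obtain ⟨g, h1, h2, -, -⟩ := hx
  exact h.line_le_ws h1 h2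

theorem mem_ws_self (h : Fr T V z) (hx : Col V x x) : x ∈ ws V x := h.mem_ws_of_col hx

theorem ws_comm (h : Fr T V z) (hx : Col V x x) : ∀ a ∈ ws V x, ∀ b ∈ ws V x, a * b = b * a := by
  obtain ⟨g, _, -, -, -, hf⟩ := h.exists_flag hx
  have := hf.ab
  rwa [ws_cj] at this

theorem ws_sq (h : Fr T V z) (hx : Col V x x) : ∀ a ∈ ws V x, a * a = 1 := by
  obtain ⟨g, _, -, -, -, hf⟩ := h.exists_flag hx
  have := hf.sqz
  rwa [ws_cj] at this

theorem ws_le_o2 [Finite G] (h : Fr T V z) (hx : Col V x x) : ws V x ≤ o2 (centralizer ({x} : Set G)) := by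
  obtain ⟨g, _, -, -, -, hf⟩ := h.exists_flag hx
  have := hf.ln.ws_le_o2
  rwa [ws_cj] at this

theorem ws_le_cent [Finite G] (h : Fr T V z) (hx : Col V x x) : ws V x ≤ centralizer ({x} : Set G) :=
  (h.ws_le_o2 hx).trans (o2_le _)

theorem isPGroup_ws (h : Fr T V z) (hx : Col V x x) : IsPGroup 2 (ws V x) := by
  intro a
  refine ⟨1, ?_⟩
  ext
  simpa [pow_two] using h.ws_sq hx a a.2

end basic

/-- (T1): at distance `< n` the group `W_x` lies in `O₂(C_G(y))` -/
theorem ws_le_o2_of_pth [Finite G] (h : Fr T V z) {n : ℕ} (hm : Mn V n) :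
    ∀ k < n, ∀ x y, Pth V k x y → ws V x ≤ o2 (centralizer ({y} : Set G)) := by
  intro k
  induction k with
  | zero =>
    intro _ x y hxy
    cases hxy with
    | zero hx => exact h.ws_le_o2 hx
  | succ k ih =>
    intro hk x y hxy
    have hxy0 := hxy
    cases hxy with
    | @step _ _ y' _ hp c =>
      have h1 := ih (by omega) x y' hp
      obtain ⟨g, hy', hy, hy'1, hy1⟩ := id c
      -- `W_x ≤ C(L)`
      have h2 : ws V x ≤ centralizer ((cj g V : Subgroup G) : Set G) := by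
        intro a ha
        rw [mem_centralizer_iff]
        intro b hb
        exact (hm k (by omega) x y' hp a ha b (h.line_le_ws hy' hb)).symm
      have h3 : centralizer ((cj g V : Subgroup G) : Set G) ≤ centralizer ({y'} : Set G) := by
        intro c hc
        rw [mem_centralizer_singleton_iff]
        exact (mem_centralizer_iff.mp hc y' hy').symm
      have h4 : ws V x ≤ o2 (centralizer ((cj g V : Subgroup G) : Set G)) := by
        refine le_trans (le_inf h1 h2) (le_o2 inf_le_right ((isPGroup_o2 _).to_le inf_le_left) ?_)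
        refine le_normalizer_of_forall fun c hc a ha => ?_
        exact ⟨conj_mem_of_normalizer (le_normalizer_o2 _) (h3 hc) ha.1, conj_mem_cent hc ha.2⟩
      have h5 : centralizer (ws V y : Set G) ≤ centralizer ((cj g V : Subgroup G) : Set G) :=
        centralizer_le (h.line_le_ws hy)
      have h6 : ws V x ≤ centralizer (ws V y : Set G) := by
        intro a ha
        rw [mem_centralizer_iff]
        intro b hb
        exact (hm (k + 1) hk x y hxy0 a ha b hb).symm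
      have h7 : ws V x ≤ o2 (centralizer (ws V y : Set G)) := by
        refine le_trans (le_inf h4 h6) (le_o2 inf_le_right ((isPGroup_o2 _).to_le inf_le_left) ?_)
        refine le_normalizer_of_forall fun c hc a ha => ?_
        exact ⟨conj_mem_of_normalizer (le_normalizer_o2 _) (h5 hc) ha.1, conj_mem_cent hc ha.2⟩
      refine h7.trans ?_
      have h8 : centralizer (ws V y : Set G) ≤ centralizer ({y} : Set G) := by
        intro c' hc'
        rw [mem_centralizer_singleton_iff]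
        exact (mem_centralizer_iff.mp hc' y (h.mem_ws_self c.right)).symm
      refine le_o2 ((o2_le _).trans h8) (isPGroup_o2 _) ?_
      exact ((centralizer_le_normalizer_ws V y).trans (normalizer_le_normalizer_centralizer _)).trans
        (normalizer_le_normalizer_o2 _)

/-- `I_l`: the intersection of two of the `W_y`, `y` on the line `cj g V`, is the intersection of all -/
theorem mem_ii_cj (h : Fr T V z) {g p q u : G} (hp : p ∈ cj g V) (hp1 : p ≠ 1) (hq : q ∈ cj g V) (hq1 : q ≠ 1)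
    (hqp : q ≠ p) (h1 : u ∈ ws V p) (h2 : u ∈ ws V q) : u ∈ ii (cj g V) := by
  obtain ⟨k, -, -, hf⟩ := h.flag hp hp1
  refine hf.mem_ii hp hp1 hq hq1 hqp ?_ ?_
  · rwa [ws_cj]
  · rwa [ws_cj]

theorem ii_cj_le (_ : Fr T V z) {g p : G} (hp : p ∈ cj g V) (hp1 : p ≠ 1) : ii (cj g V) ≤ ws V p := by
  have := ii_le hp hp1
  rwa [ws_cj] at this

/-- (F2) for the line `cj g V` -/
theorem ftwo_cj [Finite G] (h : Fr T V z) {g u : G} (hu : u ∈ ii (cj g V)) (huV : u ∉ cj g V) {p q : G}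
    (hp : p ∈ cj g V) (hp1 : p ≠ 1) (hq : q ∈ cj g V) (hq1 : q ≠ 1) :
    ∃ c ∈ normalizer ((cj g V : Subgroup G) : Set G), c * u = u * c ∧ c * p * c⁻¹ = q := by
  obtain ⟨k, -, -, hf⟩ := h.flag hp hp1
  exact hf.ftwo hu huV hp hp1 hq hq1

/-- (FU) for the line `cj g V` -/
theorem fu_cj [Finite G] (h : Fr T V z) {g u : G} (hu : u ∈ ii (cj g V)) (huV : u ∉ cj g V) {p : G}
    (hp : p ∈ cj g V) (hp1 : p ≠ 1) :
    ∃ k ∈ kq V p, k ∈ centralizer ((cj g V : Subgroup G) : Set G) ∧ k * u * k⁻¹ = p * u := by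
  obtain ⟨k, -, -, hf⟩ := h.flag hp hp1
  have := hf.fu hu huV hp hp1
  rwa [kq_cj] at this

/-- (F1) for the line `cj g V` -/
theorem mover_cj (h : Fr T V z) {g p : G} (hp : p ∈ cj g V) (hp1 : p ≠ 1) :
    ∃ k ∈ kq V p, k ∉ centralizer ((cj g V : Subgroup G) : Set G) ∧
      ∀ q ∈ cj g V, q ≠ 1 → q ≠ p → k * q * k⁻¹ = p * q := by
  obtain ⟨k, -, -, hf⟩ := h.flag hp hp1
  obtain ⟨m, hm, hm1⟩ := hf.exists_mover hp hp1
  rw [kq_cj] at hm
  refine ⟨m, hm, hm1, fun q hq hq1 hqp => ?_⟩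
  refine hf.move hp hp1 hq hq1 hqp ?_ hm1
  rwa [kq_cj]

theorem kq_cases' (h : Fr T V z) {p k w : G} (hp : Col V p p) (hk : k ∈ kq V p) (hw : w ∈ ws V p) :
    k * w * k⁻¹ = w ∨ k * w * k⁻¹ = p * w := by
  obtain ⟨g, k', hpg, -, -, hf⟩ := h.exists_flag hp
  refine hf.kq_cases hf.ln.z_mem ?_ ?_
  · rwa [kq_cj]
  · rwa [ws_cj]

end Fr

/-! ### critical pairs -/

namespace Cr

variable {T V : Subgroup G} {z : G} {n : ℕ} {x y : G}

/-- the last line of the path of a critical pair -/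
theorem last [Finite G] (h : Fr T V z) (hc : Cr V (n + 1) x y) :
    ∃ y' g, Pth V n x y' ∧ y' ∈ cj g V ∧ y ∈ cj g V ∧ y' ≠ 1 ∧ y ≠ 1 ∧ y' ≠ y ∧
      ws V x ≤ o2 (centralizer ((cj g V : Subgroup G) : Set G)) := by
  have hp := hc.path
  cases hp with
  | @step _ _ y' _ hp c =>
    obtain ⟨g, hy', hy, hy'1, hy1⟩ := id c
    have hne : y' ≠ y := by
      rintro rfl
      exact hc.ne (hc.min n (by omega) x y' hp)
    refine ⟨y', g, hp, hy', hy, hy'1, hy1, hne, ?_⟩
    have h1 := h.ws_le_o2_of_pth hc.min n (by omega) x y' hp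
    have h2 : ws V x ≤ centralizer ((cj g V : Subgroup G) : Set G) := by
      intro a ha
      rw [mem_centralizer_iff]
      intro b hb
      exact (hc.min n (by omega) x y' hp a ha b (h.line_le_ws hy' hb)).symm
    have h3 : centralizer ((cj g V : Subgroup G) : Set G) ≤ centralizer ({y'} : Set G) := by
      intro c hc
      rw [mem_centralizer_singleton_iff]
      exact (mem_centralizer_iff.mp hc y' hy').symm
    refine le_trans (le_inf h1 h2) (le_o2 inf_le_right ((isPGroup_o2 _).to_le inf_le_left) ?_)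
    refine le_normalizer_of_forall fun c hc a ha => ?_
    exact ⟨conj_mem_of_normalizer (le_normalizer_o2 _) (h3 hc) ha.1, conj_mem_cent hc ha.2⟩

/-- `W_x` centralises `y` -/
theorem cent [Finite G] (h : Fr T V z) (hc : Cr V (n + 1) x y) : ws V x ≤ centralizer ({y} : Set G) := by
  obtain ⟨y', g, -, -, hy, -, -, -, hle⟩ := hc.last h
  refine (hle.trans (o2_le _)).trans fun c hc => ?_
  rw [mem_centralizer_singleton_iff]
  exact (mem_centralizer_iff.mp hc y hy).symm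

theorem norm [Finite G] (h : Fr T V z) (hc : Cr V (n + 1) x y) :
    ws V x ≤ normalizer ((ws V y : Subgroup G) : Set G) :=
  (hc.cent h).trans (centralizer_le_normalizer_ws V y)

theorem comm_mem_right [Finite G] (h : Fr T V z) (hc : Cr V (n + 1) x y) {a b : G} (ha : a ∈ ws V x)
    (hb : b ∈ ws V y) : a * b * a⁻¹ * b⁻¹ ∈ ws V y :=
  mul_mem (conj_mem_of_normalizer (hc.norm h) ha hb) (inv_mem hb)

theorem comm_mem_left [Finite G] (h : Fr T V z) (hc : Cr V (n + 1) x y) {a b : G} (ha : a ∈ ws V x)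
    (hb : b ∈ ws V y) : a * b * a⁻¹ * b⁻¹ ∈ ws V x := by
  have e : a * b * a⁻¹ * b⁻¹ = a * (b * a⁻¹ * b⁻¹) := by group
  rw [e]
  exact mul_mem ha (conj_mem_of_normalizer (hc.symm.norm h) hb (inv_mem ha))

/-- (STAR): for the last line `L = {y', y, ..}` of a critical pair, `x ∉ W_{y'} ∩ W_y` (`n ≥ 2`) -/
theorem star [Finite G] (h : Fr T V z) (hc : Cr V (n + 2) x y) {y' g : G} (hp : Pth V (n + 1) x y')
    (hy' : y' ∈ cj g V) (hy : y ∈ cj g V) (hy'1 : y' ≠ 1) (hy1 : y ≠ 1) (h1 : x ∈ ws V y) :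
    x ∉ ws V y' := by
  intro h2
  have hne : y' ≠ y := by
    rintro rfl
    exact hc.ne (hc.min (n + 1) (by omega) x y' hp)
  have hx1 : x ≠ 1 := hc.path.left.ne_one
  have hii := h.mem_ii_cj hy' hy'1 hy hy1 hne.symm h2 h1
  have hxL : x ∉ cj g V := by
    intro hx
    have : Pth V 1 x y := Pth.of_col ⟨g, hx, hy, hx1, hy1⟩
    exact hc.ne (hc.min 1 (by omega) x y this)
  obtain ⟨c, -, hcx, hcy⟩ := h.ftwo_cj hii hxL hy' hy'1 hy hy1
  have h3 := (hc.min (n + 1) (by omega) x y' hp).conj c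
  rw [hcy, conj_eq_of_comm hcx] at h3
  exact hc.ne h3

end Cr

end Cfsg.Agent.Omega.NO3S.Pt

end

section


/-!
# NO-3S, `|V| = 4`, critical distance 2 (TwoMid): the base

* `Mid T V z p r q` : `p ~ r ~ q`, `[W_p, W_q] ≠ 1`, pairs at distance `< 2` commute;
* `Mid.not_mem` : `p ∉ W_q`; `Mid.cent_of_kq` : `W_q ∩ K_p ≤ C(W_p)`;
  `Mid.comm_of_mod` : `w ∈ W_p`, `[w, W_q] ≤ ⟨p⟩` implies `[w, W_q] = 1`;
* `rr V p q = [W_p, W_q]`, `rr_le_inf`, `p ∉ rr`;
* `uu V r = U_r = ⟨W_y : y ~ r⟩`: `uu_le_o2`, `uu_le_cent` (`U_r ≤ C(W_r)`), `uu_norm` (`U_r` normalises `W_y`, `y ~ r`).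
-/

set_option autoImplicit false
set_option linter.unusedSectionVars false

namespace Cfsg.Agent.Omega.NO3S.TwoMid

open Subgroup Cfsg Cfsg.Agent.ZN Cfsg.Agent.MinSimple.Geo Cfsg.Agent.Omega.CaseL Cfsg.Agent.Omega.NO3S.TwoOne
  Cfsg.Agent.Omega.NO3S.Pt
open Cfsg.Agent.ZN.Block (conj_mem_of_normalizer conj_mem_of_normalizer' le_normalizer_of_forall
  mem_normalizer_of)

universe u

variable {G : Type u} [Group G]

/-- the situation of a critical distance `2` -/
structure Two (T V : Subgroup G) (z : G) : Prop where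
  fr : Fr T V z
  mn : Mn V 2

/-- critical triple: `p ~ r ~ q`, `[W_p, W_q] ≠ 1`, critical distance 2 -/
structure Mid (T V : Subgroup G) (z p r q : G) : Prop extends Two T V z where
  pr : Col V p r
  rq : Col V r q
  ne : ¬ Com V p q

theorem Mid.of_cr {T V : Subgroup G} {z p q : G} (h : Fr T V z) (hc : Cr V 2 p q) :
    ∃ r, Mid T V z p r q := by
  obtain ⟨r, h1, h2⟩ := hc.path.exists_mid
  exact ⟨r, ⟨h, hc.min⟩, h1, h2, hc.ne⟩

/-- `U_r = ⟨W_y : y ~ r⟩` -/
def uu (V : Subgroup G) (r : G) : Subgroup G := sSup {W | ∃ y, Col V r y ∧ W = ws V y}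

theorem ws_le_uu {V : Subgroup G} {r y : G} (h : Col V r y) : ws V y ≤ uu V r := le_sSup ⟨y, h, rfl⟩

theorem uu_le {V U : Subgroup G} {r : G} (h : ∀ y, Col V r y → ws V y ≤ U) : uu V r ≤ U := by
  refine sSup_le ?_
  rintro _ ⟨y, hy, rfl⟩
  exact h y hy

theorem cj_uu (V : Subgroup G) (g r : G) : cj g (uu V r) = uu V (g * r * g⁻¹) := by
  have key : ∀ g r : G, cj g (uu V r) ≤ uu V (g * r * g⁻¹) := by
    intro g r
    rw [cj_le_iff]
    refine uu_le fun y hy => ?_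
    rw [← cj_le_iff, cj_ws]
    exact ws_le_uu (hy.conj g)
  refine le_antisymm (key g r) ?_
  have h := key g⁻¹ (g * r * g⁻¹)
  have e : g⁻¹ * (g * r * g⁻¹) * g⁻¹⁻¹ = r := by group
  rw [e, cj_le_iff, inv_inv] at h
  exact h

theorem centralizer_le_normalizer_uu (V : Subgroup G) (r : G) :
    centralizer ({r} : Set G) ≤ normalizer ((uu V r : Subgroup G) : Set G) := by
  intro g hg
  rw [mem_normalizer_iff_cj, cj_uu]
  have : g * r * g⁻¹ = r := by rw [mem_centralizer_singleton_iff.mp hg]; group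
  rw [this]

namespace Two

variable {T V : Subgroup G} {z : G} {p r q a b : G}

theorem conj (h : Two T V z) (g : G) : Two (cj g T) (cj g V) (g * z * g⁻¹) where
  fr := h.fr.conj g
  mn := by
    intro k hk a b hab u hu w hw
    rw [ws_cj] at hu hw
    refine h.mn k hk a b ?_ u hu w hw
    clear hu hw
    have key : ∀ {x y : G}, Col (cj g V) x y → Col V x y := by
      rintro x y ⟨m, h1, h2, h3, h4⟩
      rw [cj_cj] at h1 h2
      exact ⟨m * g, h1, h2, h3, h4⟩
    induction hab with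
    | zero hx => exact .zero (key hx)
    | step _ c ih => exact (ih (by omega)).step (key c)

/-- collinear points: `W_p`, `W_r` commute -/
theorem com (h : Two T V z) (hpr : Col V p r) : Com V p r :=
  h.mn 1 (by omega) p r (Pth.of_col hpr)

/-- `W_y ≤ O₂(C(r))`, `y ~ r` -/
theorem ws_le_o2 [Finite G] (h : Two T V z) (hpr : Col V p r) : ws V p ≤ o2 (centralizer ({r} : Set G)) :=
  h.fr.ws_le_o2_of_pth h.mn 1 (by omega) p r (Pth.of_col hpr)

theorem ws_le_cent (h : Two T V z) (hpr : Col V p r) : ws V p ≤ centralizer (ws V r : Set G) := by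
  intro a ha
  rw [mem_centralizer_iff]
  intro b hb
  exact (h.com hpr a ha b hb).symm

/-- `U_r ≤ O₂(C(r))` -/
theorem uu_le_o2 [Finite G] (h : Two T V z) (r : G) : uu V r ≤ o2 (centralizer ({r} : Set G)) :=
  uu_le fun _ hy => h.ws_le_o2 hy.symm

/-- `U_r ≤ C(W_r)` -/
theorem uu_le_cent (h : Two T V z) (r : G) : uu V r ≤ centralizer (ws V r : Set G) :=
  uu_le fun _ hy => h.ws_le_cent hy.symm

theorem ws_le_uu_self (_ : Two T V z) (hr : Col V r r) : ws V r ≤ uu V r := ws_le_uu hr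

/-- elements centralising `W_r` centralise the points `y ~ r` -/
theorem cent_ws_le (h : Two T V z) (hry : Col V r a) : centralizer (ws V r : Set G) ≤ centralizer ({a} : Set G) := by
  intro c hc
  rw [mem_centralizer_singleton_iff]
  exact (mem_centralizer_iff.mp hc a (h.fr.mem_ws_of_col hry)).symm

/-- `U_r` normalises `W_y`, `y ~ r` -/
theorem uu_norm (h : Two T V z) (hry : Col V r a) : uu V r ≤ normalizer ((ws V a : Subgroup G) : Set G) :=
  ((h.uu_le_cent r).trans (h.cent_ws_le hry)).trans (centralizer_le_normalizer_ws V a)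

theorem isPGroup_uu [Finite G] (h : Two T V z) (r : G) : IsPGroup 2 (uu V r) :=
  (isPGroup_o2 _).to_le (h.uu_le_o2 r)

/-- `W_a`, `W_b` normalise each other if `a ~ r ~ b` -/
theorem norm (h : Two T V z) (har : Col V a r) (hrb : Col V r b) :
    ws V a ≤ normalizer ((ws V b : Subgroup G) : Set G) :=
  (ws_le_uu har.symm).trans (h.uu_norm hrb)

theorem comm_mem (h : Two T V z) (har : Col V a r) (hrb : Col V r b) {x y : G} (hx : x ∈ ws V a)
    (hy : y ∈ ws V b) : x * y * x⁻¹ * y⁻¹ ∈ ws V a ⊓ ws V b := by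
  refine mem_inf.mpr ⟨?_, (ws V b).mul_mem (conj_mem_of_normalizer (h.norm har hrb) hx hy)
    ((ws V b).inv_mem hy)⟩
  have e : x * y * x⁻¹ * y⁻¹ = x * (y * x⁻¹ * y⁻¹) := by group
  rw [e]
  exact (ws V a).mul_mem hx (conj_mem_of_normalizer (h.norm hrb.symm har.symm) hy ((ws V a).inv_mem hx))

end Two

/-- `[W_p, W_q]` -/
def rr (V : Subgroup G) (p q : G) : Subgroup G :=
  closure {c | ∃ x ∈ ws V p, ∃ y ∈ ws V q, c = x * y * x⁻¹ * y⁻¹}

theorem comm_mem_rr {V : Subgroup G} {p q x y : G} (hx : x ∈ ws V p) (hy : y ∈ ws V q) :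
    x * y * x⁻¹ * y⁻¹ ∈ rr V p q := subset_closure ⟨x, hx, y, hy, rfl⟩

theorem rr_comm (V : Subgroup G) (p q : G) : rr V p q = rr V q p := by
  have key : ∀ p q : G, rr V p q ≤ rr V q p := by
    intro p q
    refine (closure_le _).mpr ?_
    rintro _ ⟨x, hx, y, hy, rfl⟩
    have : x * y * x⁻¹ * y⁻¹ = (y * x * y⁻¹ * x⁻¹)⁻¹ := by group
    rw [this]
    exact inv_mem (comm_mem_rr hy hx)
  exact le_antisymm (key p q) (key q p)

theorem cj_rr (V : Subgroup G) (g p q : G) : cj g (rr V p q) = rr V (g * p * g⁻¹) (g * q * g⁻¹) := by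
  have key : ∀ g p q : G, cj g (rr V p q) ≤ rr V (g * p * g⁻¹) (g * q * g⁻¹) := by
    intro g p q
    rw [cj_le_iff]
    refine (closure_le _).mpr ?_
    rintro _ ⟨x, hx, y, hy, rfl⟩
    refine mem_cj.mpr ?_
    have e : g⁻¹⁻¹ * (x * y * x⁻¹ * y⁻¹) * g⁻¹ =
        (g * x * g⁻¹) * (g * y * g⁻¹) * (g * x * g⁻¹)⁻¹ * (g * y * g⁻¹)⁻¹ := by group
    rw [e]
    exact comm_mem_rr (conj_mem_ws g hx) (conj_mem_ws g hy)
  refine le_antisymm (key g p q) ?_
  have h := key g⁻¹ (g * p * g⁻¹) (g * q * g⁻¹)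
  have e : ∀ x : G, g⁻¹ * (g * x * g⁻¹) * g⁻¹⁻¹ = x := fun x => by group
  rw [e, e, cj_le_iff, inv_inv] at h
  exact h

namespace Mid

variable {T V : Subgroup G} {z : G} {p r q : G}

theorem cr (h : Mid T V z p r q) : Cr V 2 p q := ⟨(Pth.of_col h.pr).step h.rq, h.ne, h.mn⟩

theorem symm (h : Mid T V z p r q) : Mid T V z q r p :=
  { h.toTwo with pr := h.rq.symm, rq := h.pr.symm, ne := fun e => h.ne e.symm }

theorem conj (h : Mid T V z p r q) (g : G) : Mid T V z (g * p * g⁻¹) (g * r * g⁻¹) (g * q * g⁻¹) :=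
  { h.toTwo with pr := h.pr.conj g, rq := h.rq.conj g, ne := fun e => h.ne (e.of_conj g) }

theorem ne_pr (h : Mid T V z p r q) : p ≠ r := by
  rintro rfl
  exact h.ne (h.toTwo.com h.rq)

theorem ne_rq (h : Mid T V z p r q) : r ≠ q := by
  rintro rfl
  exact h.ne (h.toTwo.com h.pr)

theorem not_col (h : Mid T V z p r q) : ¬ Col V p q := fun e => h.ne (h.toTwo.com e)

theorem ne_pq (h : Mid T V z p r q) : p ≠ q := by
  rintro rfl
  exact h.not_col h.pr.left

/-- `p ∉ W_q` -/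
theorem not_mem [Finite G] (h : Mid T V z p r q) : p ∉ ws V q := by
  intro hp
  obtain ⟨g, hr, hq, hr1, hq1⟩ := h.rq
  exact h.cr.star h.fr (Pth.of_col h.pr) hr hq hr1 hq1 hp (h.fr.mem_ws_of_col h.pr.symm)

theorem not_mem' [Finite G] (h : Mid T V z p r q) : q ∉ ws V p := h.symm.not_mem

/-- `W_q` centralises `p` -/
theorem cent (h : Mid T V z p r q) : ws V q ≤ centralizer ({p} : Set G) :=
  (h.toTwo.ws_le_cent h.rq.symm).trans (h.toTwo.cent_ws_le h.pr.symm)

theorem norm (h : Mid T V z p r q) : ws V q ≤ normalizer ((ws V p : Subgroup G) : Set G) :=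
  h.cent.trans (centralizer_le_normalizer_ws V p)

theorem comm_mem (h : Mid T V z p r q) {x y : G} (hx : x ∈ ws V p) (hy : y ∈ ws V q) :
    x * y * x⁻¹ * y⁻¹ ∈ ws V p ⊓ ws V q := h.toTwo.comm_mem h.pr h.rq hx hy

theorem rr_le (h : Mid T V z p r q) : rr V p q ≤ ws V p ⊓ ws V q := by
  refine (closure_le _).mpr ?_
  rintro _ ⟨x, hx, y, hy, rfl⟩
  exact h.comm_mem hx hy

theorem rr_ne_bot (h : Mid T V z p r q) : rr V p q ≠ ⊥ := by
  intro e
  apply h.ne
  intro x hx y hy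
  have := comm_mem_rr hx hy (V := V)
  rw [e, mem_bot] at this
  calc x * y = (x * y * x⁻¹ * y⁻¹) * (y * x) := by group
    _ = y * x := by rw [this, one_mul]

/-- `r ∈ W_p ∩ W_q` -/
theorem r_mem (h : Mid T V z p r q) : r ∈ ws V p ⊓ ws V q :=
  ⟨h.fr.mem_ws_of_col h.pr, h.fr.mem_ws_of_col h.rq.symm⟩

/-- an element of `⟨p⟩ ∩ W_q` is trivial -/
theorem eq_one_of_mem [Finite G] (h : Mid T V z p r q) {c : G} (hc : c ∈ zpowers p) (hq : c ∈ ws V q) : c = 1 := by
  rcases (mem_zpowers_iff_of_mul_self (h.fr.pt_sq h.pr.left)).mp hc with e | e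
  · exact e
  · exact absurd (e ▸ hq) h.not_mem

/-- `W_q ∩ K_p ≤ C(W_p)` -/
theorem cent_of_kq [Finite G] (h : Mid T V z p r q) {b : G} (hb : b ∈ ws V q) (hk : b ∈ kq V p) :
    b ∈ centralizer (ws V p : Set G) := by
  rw [mem_centralizer_iff]
  intro w hw
  have h1 : b * w * b⁻¹ * w⁻¹ = 1 := by
    refine h.eq_one_of_mem (kq_comm hk hw) ?_
    exact (h.symm.comm_mem hb hw).1
  calc w * b = (b * w * b⁻¹ * w⁻¹)⁻¹ * (b * w) := by group
    _ = b * w := by rw [h1, inv_one, one_mul]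

/-- `w ∈ W_p`, `[w, W_q] ≤ ⟨p⟩` implies `[w, W_q] = 1` -/
theorem comm_of_mod [Finite G] (h : Mid T V z p r q) {w : G} (hw : w ∈ ws V p)
    (hk : ∀ b ∈ ws V q, w * b * w⁻¹ * b⁻¹ ∈ zpowers p) : w ∈ centralizer (ws V q : Set G) := by
  rw [mem_centralizer_iff]
  intro b hb
  have h1 : w * b * w⁻¹ * b⁻¹ = 1 := h.eq_one_of_mem (hk b hb) (h.comm_mem hw hb).2
  calc b * w = (w * b * w⁻¹ * b⁻¹)⁻¹ * (w * b) := by group
    _ = w * b := by rw [h1, inv_one, one_mul]

theorem not_mem_rr [Finite G] (h : Mid T V z p r q) : p ∉ rr V p q := fun e => h.not_mem (h.rr_le e).2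

theorem not_mem_rr' [Finite G] (h : Mid T V z p r q) : q ∉ rr V p q := fun e => h.not_mem' (h.rr_le e).1

end Mid

end Cfsg.Agent.Omega.NO3S.TwoMid

end

section


/-!
# NO-3S, `|V| = 4`, critical distance 2: TYPE N (`[W_a, W_b] ≤ ⟨r⟩` for all `a ~ r ~ b`)

helper986 #11290 (b), helper502 #15661 (5), helper740 (UM).

* `TyN T V z` : `Two` and `[W_a, W_b] ≤ ⟨r⟩` for every path `a ~ r ~ b`;
* `TyN.uu_comm` : `[U_r, U_r] ≤ ⟨r⟩`, `TyN.uu_sq` : `x² ∈ ⟨r⟩` for `x ∈ U_r`, `TyN.inf_comm` : `U_r ∩ U_p` is abelian,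
  of exponent 2 (`TyN.inf_sq`), `r ≠ p`;
* `TyN.dihedral` : `a ~ r ~ p`, `w ∈ U_p`, `y ∈ W_a` : `[y, [y, w]] = 1`; `TyN.dihedral_all` : for all `y ∈ U_r`;
* `TyN.middle` : the middle of a critical pair is unique; `TyN.inf_eq` (UM).
-/

set_option autoImplicit false
set_option linter.unusedSectionVars false

namespace Cfsg.Agent.Omega.NO3S.TwoMid

open Subgroup Cfsg Cfsg.Agent.ZN Cfsg.Agent.MinSimple.Geo Cfsg.Agent.Omega.CaseL Cfsg.Agent.Omega.NO3S.TwoOne
  Cfsg.Agent.Omega.NO3S.Pt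
open Cfsg.Agent.ZN.Block (conj_mem_of_normalizer conj_mem_of_normalizer' le_normalizer_of_forall
  mem_normalizer_of)

universe u

variable {G : Type u} [Group G]

/-- type N -/
structure TyN (T V : Subgroup G) (z : G) : Prop extends Two T V z where
  n : ∀ a r b, Col V a r → Col V r b → ∀ x ∈ ws V a, ∀ y ∈ ws V b, x * y * x⁻¹ * y⁻¹ ∈ zpowers r

namespace TyN

variable {T V : Subgroup G} {z : G} {a b p r : G}

/-- elements of `C(r)` centralise `⟨r⟩` -/
theorem zc {c y : G} (hc : c ∈ centralizer ({r} : Set G)) (hy : y ∈ zpowers r) : c * y * c⁻¹ = y := by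
  obtain ⟨n, rfl⟩ := mem_zpowers_iff.mp hy
  have h : Commute c r := mem_centralizer_singleton_iff.mp hc
  rw [(h.zpow_right n).eq, mul_inv_cancel_right]

/-- commutators of elements of `C(r)` with commutators in `⟨r⟩` -/
theorem comm_closure {A B : Set G} (hA : A ⊆ centralizer ({r} : Set G)) (hB : B ⊆ centralizer ({r} : Set G))
    (h : ∀ x ∈ A, ∀ y ∈ B, x * y * x⁻¹ * y⁻¹ ∈ zpowers r) :
    ∀ x ∈ closure A, ∀ y ∈ closure B, x * y * x⁻¹ * y⁻¹ ∈ zpowers r := by
  have hAc : closure A ≤ centralizer ({r} : Set G) := (closure_le _).mpr hA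
  have hBc : closure B ≤ centralizer ({r} : Set G) := (closure_le _).mpr hB
  have h1 : ∀ x ∈ A, ∀ y ∈ closure B, x * y * x⁻¹ * y⁻¹ ∈ zpowers r := by
    intro x hx y hy
    induction hy using closure_induction with
    | mem y hy => exact h x hx y hy
    | one => simp
    | mul y y' hy hy' h1 h2 =>
      have e : x * (y * y') * x⁻¹ * (y * y')⁻¹ =
          (x * y * x⁻¹ * y⁻¹) * (y * (x * y' * x⁻¹ * y'⁻¹) * y⁻¹) := by group
      rw [e, zc (hBc hy) h2]
      exact mul_mem h1 h2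
    | inv y hy h1 =>
      have e : x * y⁻¹ * x⁻¹ * y⁻¹⁻¹ = (y⁻¹ * (x * y * x⁻¹ * y⁻¹) * y⁻¹⁻¹)⁻¹ := by group
      rw [e, zc (inv_mem (hBc hy)) h1]
      exact inv_mem h1
  intro x hx y hy
  induction hx using closure_induction with
  | mem x hx => exact h1 x hx y hy
  | one => simp
  | mul x x' hx hx' h1 h2 =>
    have e : x * x' * y * (x * x')⁻¹ * y⁻¹ =
        (x * (x' * y * x'⁻¹ * y⁻¹) * x⁻¹) * (x * y * x⁻¹ * y⁻¹) := by group
    rw [e, zc (hAc hx) h2]
    exact mul_mem h2 h1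
  | inv x hx h1 =>
    have e : x⁻¹ * y * x⁻¹⁻¹ * y⁻¹ = (x⁻¹ * (x * y * x⁻¹ * y⁻¹) * x⁻¹⁻¹)⁻¹ := by group
    rw [e, zc (inv_mem (hAc hx)) h1]
    exact inv_mem h1

theorem uu_eq_closure (V : Subgroup G) (r : G) : uu V r = closure {x | ∃ y, Col V r y ∧ x ∈ ws V y} := by
  apply le_antisymm
  · refine uu_le fun y hy x hx => subset_closure ⟨y, hy, hx⟩
  · rw [closure_le]
    rintro x ⟨y, hy, hx⟩
    exact ws_le_uu hy hx

variable [Finite G]

theorem uu_le_cr (h : TyN T V z) (r : G) : uu V r ≤ centralizer ({r} : Set G) :=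
  (h.toTwo.uu_le_o2 r).trans (o2_le _)

/-- `[U_r, U_r] ≤ ⟨r⟩` -/
theorem uu_comm (h : TyN T V z) {x y : G} (hx : x ∈ uu V r) (hy : y ∈ uu V r) :
    x * y * x⁻¹ * y⁻¹ ∈ zpowers r := by
  have hle : {x | ∃ y, Col V r y ∧ x ∈ ws V y} ⊆ (centralizer ({r} : Set G) : Set G) := by
    rintro x ⟨y, hy, hx⟩
    exact h.uu_le_cr r (ws_le_uu hy hx)
  rw [uu_eq_closure] at hx hy
  refine comm_closure hle hle ?_ x hx y hy
  rintro x ⟨a, ha, hx⟩ y ⟨b, hb, hy⟩
  exact h.n a r b ha.symm hb x hx y hy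

/-- `x² ∈ ⟨r⟩`, `x ∈ U_r` -/
theorem uu_sq (h : TyN T V z) {x : G} (hx : x ∈ uu V r) : x * x ∈ zpowers r := by
  have hx' := hx
  rw [uu_eq_closure] at hx
  have hc : ∀ x ∈ closure {x | ∃ y, Col V r y ∧ x ∈ ws V y}, x ∈ uu V r := by
    intro x hx
    rwa [uu_eq_closure]
  clear hx'
  induction hx using closure_induction with
  | mem x hx =>
    obtain ⟨y, hy, hx⟩ := hx
    rw [h.fr.ws_sq hy.right x hx]
    exact one_mem _
  | one => simp
  | mul x y hx hy h1 h2 =>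
    have e : x * y * (x * y) = (x * x) * (x⁻¹ * (y * x * y⁻¹ * x⁻¹) * x⁻¹⁻¹) * (y * y) := by group
    rw [e, zc (inv_mem (h.uu_le_cr r (hc x hx))) (h.uu_comm (hc y hy) (hc x hx))]
    exact mul_mem (mul_mem h1 (h.uu_comm (hc y hy) (hc x hx))) h2
  | inv x hx h1 =>
    have e : x⁻¹ * x⁻¹ = (x * x)⁻¹ := by group
    rw [e]
    exact inv_mem h1

/-- `⟨p⟩ ∩ ⟨r⟩ = 1` -/
theorem eq_one (h : TyN T V z) (hpr : Col V p r) (hne : p ≠ r) {c : G} (h1 : c ∈ zpowers p) (h2 : c ∈ zpowers r) :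
    c = 1 := by
  rcases (mem_zpowers_iff_of_mul_self (h.fr.pt_sq hpr.left)).mp h1 with e | e
  · exact e
  rcases (mem_zpowers_iff_of_mul_self (h.fr.pt_sq hpr.right)).mp h2 with e' | e'
  · exact e'
  · exact absurd (e.symm.trans e') hne

theorem inf_comm (h : TyN T V z) (hpr : Col V p r) (hne : p ≠ r) {x y : G} (hx : x ∈ uu V p ⊓ uu V r)
    (hy : y ∈ uu V p ⊓ uu V r) : x * y = y * x := by
  have h1 := h.eq_one hpr hne (h.uu_comm hx.1 hy.1) (h.uu_comm hx.2 hy.2)
  calc x * y = (x * y * x⁻¹ * y⁻¹) * (y * x) := by group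
    _ = y * x := by rw [h1, one_mul]

theorem inf_sq (h : TyN T V z) (hpr : Col V p r) (hne : p ≠ r) {x : G} (hx : x ∈ uu V p ⊓ uu V r) :
    x * x = 1 := h.eq_one hpr hne (h.uu_sq hx.1) (h.uu_sq hx.2)

/-- `U_p` normalises `U_r`, `p ~ r` -/
theorem uu_norm_uu (h : TyN T V z) (hpr : Col V p r) : uu V p ≤ normalizer ((uu V r : Subgroup G) : Set G) :=
  ((h.toTwo.uu_le_cent p).trans (h.toTwo.cent_ws_le hpr)).trans (centralizer_le_normalizer_uu V r)

/-- `[U_r, U_p] ≤ U_r ∩ U_p` -/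
theorem comm_mem_inf (h : TyN T V z) (hpr : Col V p r) {x y : G} (hx : x ∈ uu V r) (hy : y ∈ uu V p) :
    x * y * x⁻¹ * y⁻¹ ∈ uu V p ⊓ uu V r := by
  refine mem_inf.mpr ⟨?_, ?_⟩
  · exact (uu V p).mul_mem (conj_mem_of_normalizer (h.uu_norm_uu hpr.symm) hx hy) ((uu V p).inv_mem hy)
  · have e : x * y * x⁻¹ * y⁻¹ = x * (y * x⁻¹ * y⁻¹) := by group
    rw [e]
    exact (uu V r).mul_mem hx (conj_mem_of_normalizer (h.uu_norm_uu hpr) hy ((uu V r).inv_mem hx))

/-- **DIHEDRAL TRICK**: `a ~ r ~ p`, `w ∈ U_p`, `y ∈ W_a`: `y` commutes with `y^w`, so with `[y, w]` -/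
theorem dihedral (h : TyN T V z) (har : Col V a r) (hrp : Col V r p) (hne : p ≠ r) {w y : G}
    (hw : w ∈ uu V p) (hy : y ∈ ws V a) : y * (y * w * y⁻¹ * w⁻¹) = (y * w * y⁻¹ * w⁻¹) * y := by
  set c := y * w * y⁻¹ * w⁻¹ with hc
  have hyU : y ∈ uu V r := ws_le_uu har.symm hy
  have hcm : c ∈ uu V p ⊓ uu V r := h.comm_mem_inf hrp.symm hyU hw
  have hyy : y * y = 1 := h.fr.ws_sq har.left y hy
  have hyi : y⁻¹ = y := inv_eq_self hyy
  have e1 : w * y * w⁻¹ = c⁻¹ * y := by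
    rw [hc]
    calc w * y * w⁻¹ = w * y⁻¹⁻¹ * w⁻¹ := by rw [inv_inv]
      _ = (y * w * y⁻¹ * w⁻¹)⁻¹ * y := by group
  have hcc : c * c = 1 := h.inf_sq hrp.symm hne hcm
  have hci : c⁻¹ = c := inv_eq_self hcc
  -- `(c y)² = 1` because `c y = w y w⁻¹` (up to `c = c⁻¹`)
  have e3 : c * y * (c * y) = 1 := by
    have : w * y * w⁻¹ * (w * y * w⁻¹) = 1 := by
      calc w * y * w⁻¹ * (w * y * w⁻¹) = w * (y * y) * w⁻¹ := by group
        _ = 1 := by rw [hyy]; group
    rwa [e1, hci] at this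
  have e4 : y * c * y⁻¹ * c⁻¹ = 1 := by
    rw [hyi, hci]
    have : c * y * c * y = 1 := by
      calc c * y * c * y = c * y * (c * y) := by group
        _ = 1 := e3
    calc y * c * y * c = y * (c * y * c * y) * y⁻¹ := by group
      _ = 1 := by rw [this]; group
  calc y * c = (y * c * y⁻¹ * c⁻¹) * (c * y) := by group
    _ = c * y := by rw [e4, one_mul]

end TyN

end Cfsg.Agent.Omega.NO3S.TwoMid

end

section


/-!
# TwoFar (`|V_P| = 4`, `n ≥ 3`): THEOREM LL (#18157), section 3: the GRANDCHILD LEMMA, geometry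

* `four'` : the elements of a line;
* `colTrans` : (F2) as: `u ∈ W_a ∩ W_b`, `a`, `b` on a line, `u` not on the line, `u` collinear with `a` ⟹ with `b`;
* `grand` : a path `x₂, x₁, y₀, y₁, ..` as in section 3 of #18157 : `W_{x₂} ∩ W_{x₁} ∩ W_{y₀} ∩ W_{y₁}` contains no
  point `e ∼ x₂` with `e ≠ x₂, x₁, x₂x₁`.
-/

set_option autoImplicit false
set_option linter.unusedSectionVars false

namespace Cfsg.Agent.Omega.NOThree.LL

open Subgroup Cfsg Cfsg.Agent.ZN Cfsg.Agent.MinSimple.Geo Cfsg.Agent.Omega.CaseL Cfsg.Agent.Omega.NO3S.TwoOne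
open Cfsg.Agent.Omega.NO3S.Pt

universe u

variable {G : Type u} [Group G] {T V : Subgroup G} {z : G}

/-- the elements of the line of `a`, `b` -/
theorem four' (h : Fr T V z) {g a b e : G} (ha : a ∈ cj g V) (ha1 : a ≠ 1) (hb : b ∈ cj g V) (hb1 : b ≠ 1)
    (hne : b ≠ a) (he : e ∈ cj g V) : e = 1 ∨ e = a ∨ e = b ∨ e = a * b := by
  obtain ⟨k, -, -, hf⟩ := h.flag ha ha1
  exact hf.ln.four ha hb ha1 hb1 (Ne.symm hne) he

/-- (F2): `a`, `b` on a line, `u ∈ W_a ∩ W_b` not on it: `u ∼ a` implies `u ∼ b`. -/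
theorem colTrans [Finite G] (h : Fr T V z) {g a b u : G} (ha : a ∈ cj g V) (ha1 : a ≠ 1) (hb : b ∈ cj g V)
    (hb1 : b ≠ 1) (hne : b ≠ a) (hua : u ∈ ws V a) (hub : u ∈ ws V b) (hu : u ∉ cj g V) (hc : Col V u a) :
    Col V u b := by
  have hii := h.mem_ii_cj ha ha1 hb hb1 hne hua hub
  obtain ⟨c, -, hcu, hcab⟩ := h.ftwo_cj hii hu ha ha1 hb hb1
  have := hc.conj c
  rwa [conj_eq_of_comm hcu, hcab] at this

/-- geometry of section 3: `x₂ ∼ x₁ ∼ y₀ ∼ y₁`, `d(x₂, y₀) = 2`, `d(x₁, y₁) = 2` -/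
theorem grand_geo [Finite G] (h : Fr T V z) {x2 x1 y0 y1 e : G} (c21 : Col V x2 x1) (c10 : Col V x1 y0)
    (c01 : Col V y0 y1) (hx21 : x2 ≠ x1) (h20 : ¬ Col V x2 y0) (h11 : ¬ Col V x1 y1) (h1 : x1 ≠ y0) (h0 : y0 ≠ y1)
    (he2 : e ∈ ws V x2) (he1 : e ∈ ws V x1) (he0 : e ∈ ws V y0) (hey : e ∈ ws V y1)
    (hne1 : e ≠ x1) (hne2 : e ≠ x2) (hne21 : e ≠ x2 * x1) (hc : Col V e x2) : Col V e y1 := by
  obtain ⟨g, a1, a2, a3, a4⟩ := id c21
  obtain ⟨g', b1, b2, b3, b4⟩ := id c10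
  obtain ⟨g'', d1, d2, d3, d4⟩ := id c01
  have hee : e ≠ 1 := hc.ne_one
  -- `y₀ ∉ W_{x₂}`
  have hy0 : y0 ∉ ws V x2 := by
    intro hy
    by_cases hl : y0 ∈ cj g V
    · exact h20 ⟨g, a1, hl, a3, b4⟩
    · exact h20 (colTrans h a2 a4 a1 a3 hx21 (h.mem_ws_of_col c10) hy hl c10.symm).symm
  -- `y₁ ∉ W_{x₁}`
  have hy1 : y1 ∉ ws V x1 := by
    intro hy
    by_cases hl : y1 ∈ cj g' V
    · exact h11 ⟨g', b1, hl, b3, d4⟩
    · exact h11 (colTrans h b2 b4 b1 b3 h1 (h.mem_ws_of_col c01) hy hl c01.symm).symm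
  -- `e ∼ x₁`
  have e1 : Col V e x1 := by
    refine colTrans h a1 a3 a2 a4 hx21.symm he2 he1 ?_ hc
    intro hl
    rcases four' h a1 a3 a2 a4 hx21.symm hl with e' | e' | e' | e'
    · exact hee e'
    · exact hne2 e'
    · exact hne1 e'
    · exact hne21 e'
  -- `e ∼ y₀`
  have hx12 : x1 ∈ ws V x2 := h.mem_ws_of_col c21
  have e0 : Col V e y0 := by
    refine colTrans h b1 b3 b2 b4 h1.symm he1 he0 ?_ e1
    intro hl
    rcases four' h b1 b3 b2 b4 h1.symm hl with e' | e' | e' | e'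
    · exact hee e'
    · exact hne1 e'
    · exact hy0 (e' ▸ he2)
    · apply hy0
      have : y0 = x1⁻¹ * e := by rw [e']; group
      rw [this]
      exact mul_mem (inv_mem hx12) he2
  -- `e ∼ y₁`
  refine colTrans h d1 d3 d2 d4 h0.symm he0 hey ?_ e0
  intro hl
  have hy01 : y0 ∈ ws V x1 := h.mem_ws_of_col c10
  rcases four' h d1 d3 d2 d4 h0.symm hl with e' | e' | e' | e'
  · exact hee e'
  · exact hy0 (e' ▸ he2)
  · exact hy1 (e' ▸ he1)
  · apply hy1
    have : y1 = y0⁻¹ * e := by rw [e']; group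
    rw [this]
    exact mul_mem (inv_mem hy01) he1

/-- a piece of the path `y` -/
theorem pth_seg {y : ℕ → G} {n : ℕ} (hy : ∀ i < n, Col V (y i) (y (i + 1))) {i k : ℕ} (hk : i + k ≤ n)
    (hn : 0 < n) : Pth V k (y i) (y (i + k)) := by
  induction k with
  | zero =>
    rcases Nat.lt_or_ge i n with hi | hi
    · exact Pth.zero (hy i hi).left
    · obtain rfl : i = n := by omega
      obtain ⟨j, rfl⟩ : ∃ j, i = j + 1 := ⟨i - 1, by omega⟩
      exact Pth.zero (hy j (by omega)).right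
  | succ k ih => exact (ih (by omega)).step (hy (i + k) (by omega))

/-- **GRANDCHILD LEMMA** (#18157, section 3 (d)): `y` a geodesic, `(x₁, y_{n-1})` and `(x₂, y_{n-2})` critical. -/
theorem grand_path [Finite G] (h : Fr T V z) {m : ℕ} {y : ℕ → G} {x1 x2 e : G}
    (hy : ∀ i < m + 3, Col V (y i) (y (i + 1))) (c0 : Cr V (m + 3) (y 0) (y (m + 3)))
    (c1 : Cr V (m + 3) x1 (y (m + 2))) (c2 : Cr V (m + 3) x2 (y (m + 1))) (c10 : Col V x1 (y 0))
    (c21 : Col V x2 x1) (he2 : e ∈ ws V x2) (he1 : e ∈ ws V x1) (he0 : e ∈ ws V (y 0)) (hey : e ∈ ws V (y 1))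
    (hne1 : e ≠ x1) (hne2 : e ≠ x2) (hne21 : e ≠ x2 * x1) : ¬ Col V e x2 := by
  intro hc
  have h20 : ¬ Col V x2 (y 0) := fun hh => c2.ne (c2.min (m + 2) (by omega) _ _ (by
    have := pth_seg hy (i := 0) (k := m + 1) (by omega) (by omega)
    rw [zero_add] at this
    exact this.head hh))
  have h11 : ¬ Col V x1 (y 1) := fun hh => c1.ne (c1.min (m + 2) (by omega) _ _ (by
    have := pth_seg hy (i := 1) (k := m + 1) (by omega) (by omega)
    rw [show 1 + (m + 1) = m + 2 by omega] at this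
    exact this.head hh))
  have hx21 : x2 ≠ x1 := fun hh => h20 (hh ▸ c10)
  have h1 : x1 ≠ y 0 := fun hh => h11 (hh ▸ hy 0 (by omega))
  have h0 : y 0 ≠ y 1 := fun hh => c0.ne (c0.min (m + 2) (by omega) _ _ (by
    have := pth_seg hy (i := 1) (k := m + 2) (by omega) (by omega)
    rw [show 1 + (m + 2) = m + 3 by omega, ← hh] at this
    exact this))
  have key := grand_geo h c21 c10 (hy 0 (by omega)) hx21 h20 h11 h1 h0 he2 he1 he0 hey hne1 hne2 hne21 hc
  refine c2.ne (c2.min (m + 2) (by omega) _ _ ?_)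
  have := pth_seg hy (i := 1) (k := m) (by omega) (by omega)
  rw [show 1 + m = m + 1 by omega] at this
  exact (this.head key).head hc.symm

end Cfsg.Agent.Omega.NOThree.LL

end

end
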